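import Cfsg.Agent.E6Tw.Lin3

set_option autoImplicit false
set_option linter.unusedSectionVars false

/-!
# Certificates for the twisted group of type E6 (helper19)
-/

namespace Cfsg.Agent.E6Tw

open Cfsg.Agent.E6Min

namespace ActT

/-- the positive roots -/
def P : List ℕ := List.range' 36 36

/-- the long roots -/
def LL : List ℕ := [0, 1, 2, 6, 8, 11, 18, 20, 24, 25, 27, 32, 39, 44, 46, 47, 51, 53, 60, 63, 65, 69, 70, 71]

/-- connections -/
def conT : List (ℕ × ℕ × ℕ) := [(0, 1, 46), (0, 2, 47), (0, 6, 51), (0, 8, 53), (1, 11, 53), (0, 18, 63), (0, 20, 65), (0, 24, 69), (0, 25, 70), (1, 27, 65), (1, 32, 69), (2, 39, 70), (6, 44, 70), (1, 46, 71), (2, 47, 71), (6, 51, 71), (8, 53, 71), (18, 60, 70), (18, 63, 71), (20, 65, 71), (24, 69, 71), (25, 70, 71), (46, 71, 70)]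

set_option maxRecDepth 100000 in
theorem con_all : (conT.all fun p => okPair [] p.1 p.2.1 p.2.2 && Nat.blt p.1 p.2.1) = true := by decide +kernel

set_option maxRecDepth 100000 in
theorem con_cov : ((List.range 72).all fun r => !(fx r) || r == 0 || (conT.map fun p => p.2.1).contains r) = true := by decide +kernel

def L46 : List (ℕ × ℕ) := [(47, 32), (48, 31), (49, 30), (51, 27), (52, 26), (63, 11), (71, 1)]
def L39 : List (ℕ × ℕ) := [(40, 34), (41, 33), (47, 25), (53, 20), (54, 19), (65, 8), (70, 2)]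

def LA : List (ℕ × ℕ) := [(34, 38), (35, 38), (36, 37), (15, 57), (14, 67), (14, 68), (15, 66), (29, 57), (42, 56), (29, 67), (29, 68), (38, 64), (35, 68), (36, 67), (37, 68)]
def LM : List (ℕ × ℕ) := [(39, 69)]
def LB : List (ℕ × ℕ) := [(14, 58), (14, 59), (29, 45), (15, 58), (15, 59), (38, 43), (34, 59), (37, 58), (36, 59)]

def S0 : List ℕ := clS L46 [46]
def S1 : List ℕ := LA.map (fun p => sm p.1 p.2) ++ S0
def S2 : List ℕ := LM.map (fun p => sm p.1 p.2) ++ S1
def S3 : List ℕ := LB.map (fun p => sm p.1 p.2) ++ S2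

set_option maxRecDepth 100000 in
theorem S0_chk : (clr L46 46 [46] && Nat.beq (wl L46) 10 && fx 46 && trv2 S0 S0 46 LA && trv2 S0 S1 46 LM && trv2 S0 S2 46 LB &&
    P.all fun x => S3.contains x) = true := by
  decide +kernel

/-- the remaining positive roots -/
def RR : List ℕ := P.filter fun w => !(w == 46) && !(w == 39) && !(w == 47)

set_option maxRecDepth 100000 in
theorem trf_chk : (okPair RR 46 47 39 && okPair RR 39 47 46 && pres (46 :: 47 :: RR) 46 39 && pres (39 :: 47 :: RR) 39 46 &&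
    !((46 :: 47 :: RR).contains 39) && !((39 :: 47 :: RR).contains 46) && (S0.all fun w => (46 :: 47 :: RR).contains w) &&
    (P.all fun w => (39 :: 46 :: 47 :: RR).contains w) && ((39 :: 46 :: 47 :: RR).all fun w => P.contains w) && fx 39 && fx 47) = true := by
  decide +kernel

/-- certificates for the lower bounds: root, reflection, parent, mask, parts, higher roots -/
def cT : List (ℕ × (ℕ × ℕ × ℕ) × List (ℕ × ℕ) × List ℕ) := [(71, (3, 70, 0x7f1fe03ff003f80700), [(53, 63), (54, 62), (55, 61), (65, 51), (66, 50), (69, 47), (70, 46)], []), (70, (2, 69, 0xbfe3ffc471dc003800), [(53, 60), (54, 59), (55, 58), (65, 44), (66, 43), (69, 39)], [71]), (69, (1, 65, 0xdfe5ffcb962c005800), [(51, 60), (52, 59), (55, 57), (63, 44), (66, 42)], [70, 71]), (65, (0, 53, 0xfdeafffd694000a800), [(47, 60), (49, 58), (54, 56), (63, 39)], [66, 68, 69, 70, 71]), (63, (0, 51, 0xff6cffffaa0000c800), [(46, 60), (49, 57), (52, 56)], [55, 65, 66, 67, 68, 69, 70, 71]), (60,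 (0, 44, 0xffecffffaa0000c000), [(41, 57), (45, 56)], [54, 55, 63, 64, 65, 66, 67, 68, 69, 70, 71]), (53, (2, 51, 0xffffdfe67198000000), [(47, 44), (48, 43), (51, 39)], [54, 55, 60, 63, 64, 65, 66, 67, 68, 69, 70, 71]), (51, (1, 47, 0xfffff7ebd428000000), [(46, 44), (48, 42)], [52, 53, 54, 55, 60, 62, 63, 64, 65, 66, 67, 68, 69, 70, 71]), (44, (1, 39, 0xffffffebd420000000), [(40, 42)], [45, 49, 51, 52, 53, 54, 55, 59, 60, 61, 62, 63, 64, 65, 66, 67, 68, 69, 70, 71]), (47, (2, 46, 0xffffff7f7100000000), [(46, 39)], [41, 44, 45, 48, 49, 50, 51, 52, 53, 54, 55, 58, 59, 60, 61, 62, 63, 64, 65, 66, 67, 68, 69, 70, 71]), (46, (9, 0, 0xffffffbff000000000), [], [38, 40, 41, 43, 44, 45, 47, 48, 49, 50, 51, 52, 53, 54, 55, 57, 58, 59, 60, 61, 62, 63, 64, 65, 66, 67, 68, 69, 70, 71]), (39, (9, 0, 0xffffffff7000000000), [], [38, 40, 41, 43, 44, 45, 46, 47, 48, 49, 50, 51, 52, 53, 54, 55, 57, 58, 59, 60, 61, 62, 63, 64, 65, 66, 67, 68, 69, 70, 71])]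

/-- list of the elements of a mask -/
def ml (m : ℕ) : List ℕ := (List.range 72).filter fun x => m.testBit x

/-- the mask of a root -/
def mks (r : ℕ) : ℕ := ((cT.find? fun c => c.1 == r).getD (0, (0, 0, 0), [], [])).2.1.2.2

/-- check of a certificate -/
def cBody (c : ℕ × (ℕ × ℕ × ℕ) × List (ℕ × ℕ) × List ℕ) : Bool :=
  fx c.1 && Nat.blt c.1 72 && (mks c.1 == c.2.1.2.2) && clr c.2.2.1 c.1 (c.1 :: c.2.2.2) &&
    ((clS c.2.2.1 (c.1 :: c.2.2.2)).all fun x => x == c.1 || (Nat.blt x 72 && c.2.1.2.2.testBit x)) &&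
    ([46, 39].contains c.1 && ((ml c.2.1.2.2).all fun x => Nat.ble 36 x && !(x == c.1)) ||
      (Nat.blt c.2.1.1 4 && Nat.blt c.2.1.2.1 c.1 && fx c.2.1.2.1 && ((cT.map Prod.fst).contains c.2.1.2.1) && c.1 == wi c.2.1.1 c.2.1.2.1 &&
        (ml c.2.1.2.2).all fun x => Nat.blt (wi c.2.1.1 x) 72 && (mks c.2.1.2.1).testBit (wi c.2.1.1 x) && wi c.2.1.1 (wi c.2.1.1 x) == x &&
          !(x == c.1) && !(wi c.2.1.1 x == c.2.1.2.1) && (fx (wi c.2.1.1 x) == fx x)))

set_option maxRecDepth 100000 in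
theorem cT_all : (cT.all cBody) = true := by decide +kernel

/-- the order -/
def ord : List ℕ := [71, 70, 69, 65, 63, 60, 53, 51, 44, 47, 46, 39]

/-- lengths -/
def lens : List ℕ := [10, 9, 8, 6, 5, 4, 4, 3, 2, 1, 0, 0]

set_option maxRecDepth 100000 in
theorem ord_chk : ((List.range 12).all fun j => pres (ord.take j) 100 (ord.getD j 0) && !((ord.take j).contains (ord.getD j 0)) &&
    (match (cT.find? fun c => c.1 == ord.getD j 0) with
      | some c => c.1 == ord.getD j 0 && Nat.beq (wl c.2.2.1) (lens.getD j 0) && ((ord.take j).all fun x => c.2.2.2.contains x)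
      | none => false)) = true := by decide +kernel

theorem lens_sum (q : ℕ) : ∑ j ∈ Finset.range 12, q ^ (lens.getD j 0) =
    2 + q + q ^ 2 + q ^ 3 + 2 * q ^ 4 + q ^ 5 + q ^ 6 + q ^ 8 + q ^ 9 + q ^ 10 := by
  simp only [Finset.sum_range_succ, Finset.sum_range_zero, lens, List.getD_cons_zero, List.getD_cons_succ]
  ring

end ActT

end Cfsg.Agent.E6Tw
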